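import Mathlib

/-!
# Limit of a subspace along a quadratic one-parameter unipotent group

For `y ^ 2 = 0` in an algebra `R`, the leading coefficients of `(1 + X y) f (1 - X y)`, `f` with
coefficients in a subspace `S`, form a subspace `lim y S` at least as large as `S`, fixed by
conjugation with `1 + y`.
-/

set_option autoImplicit false

open Polynomial

namespace Cfsg.Agent.Lib.LimitOffender

variable {k : Type*} [Field k] {R : Type*} [Ring R] [Algebra k R]

noncomputable def uP (y : R) : R[X] := 1 + C y * X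

noncomputable def vP (y : R) : R[X] := 1 - C y * X

variable {y : R}

theorem uv (hy : y * y = 0) : uP y * vP y = 1 := by
  have h : C y * X * (C y * X) = (0 : R[X]) := by
    rw [mul_assoc, ← mul_assoc X (C y) X, X_mul_C, mul_assoc (C y) X X, ← mul_assoc (C y) (C y),
      ← C_mul, hy, C_0, zero_mul]
  simp only [uP, vP, add_mul, mul_sub, one_mul, mul_one, h]
  abel

theorem vu (hy : y * y = 0) : vP y * uP y = 1 := by
  have h : C y * X * (C y * X) = (0 : R[X]) := by
    rw [mul_assoc, ← mul_assoc X (C y) X, X_mul_C, mul_assoc (C y) X X, ← mul_assoc (C y) (C y),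
      ← C_mul, hy, C_0, zero_mul]
  simp only [uP, vP, sub_mul, mul_add, one_mul, mul_one, h]
  abel

/-- Polynomials with all coefficients in `S`. -/
def coeffIn (S : Submodule k R) : Submodule k R[X] where
  carrier := {f | ∀ n, f.coeff n ∈ S}
  zero_mem' := fun n => by simp
  add_mem' := fun {f g} hf hg n => by rw [coeff_add]; exact S.add_mem (hf n) (hg n)
  smul_mem' := fun c f hf n => by rw [coeff_smul]; exact S.smul_mem c (hf n)

variable (k)

/-- Conjugation by `1 + X y`. -/
noncomputable def Phi (y : R) : R[X] →ₗ[k] R[X] where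
  toFun f := uP y * f * vP y
  map_add' f g := by rw [mul_add, add_mul]
  map_smul' c f := by simp [mul_smul_comm, smul_mul_assoc]

variable {k}

theorem Phi_apply (f : R[X]) : Phi k y f = uP y * f * vP y := rfl

theorem Phi_X_pow (f : R[X]) (j : ℕ) : Phi k y (f * X ^ j) = Phi k y f * X ^ j := by
  rw [Phi_apply, Phi_apply, ← mul_assoc, mul_assoc _ (X ^ j), X_pow_mul, ← mul_assoc]

theorem mem_coeffIn_X_pow {S : Submodule k R} {f : R[X]} (hf : f ∈ coeffIn S) (j : ℕ) :
    f * X ^ j ∈ coeffIn S := fun n => by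
  rw [coeff_mul_X_pow']
  split_ifs
  · exact hf _
  · exact S.zero_mem

/-- The conjugated polynomials of degree less than `d`. -/
noncomputable def below (y : R) (S : Submodule k R) (d : ℕ) : Submodule k R[X] where
  carrier := {g | g ∈ (coeffIn S).map (Phi k y) ∧ ∀ n, d ≤ n → g.coeff n = 0}
  zero_mem' := ⟨Submodule.zero_mem _, fun n _ => coeff_zero n⟩
  add_mem' := fun {f g} hf hg => ⟨Submodule.add_mem _ hf.1 hg.1, fun n hn => by
    rw [coeff_add, hf.2 n hn, hg.2 n hn, add_zero]⟩
  smul_mem' := fun c f hf => ⟨Submodule.smul_mem _ c hf.1, fun n hn => by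
    rw [coeff_smul, hf.2 n hn, smul_zero]⟩

theorem below_shift {S : Submodule k R} {d : ℕ} {g : R[X]} (hg : g ∈ below y S d) (j : ℕ) :
    g * X ^ j ∈ below y S (d + j) := by
  obtain ⟨⟨f, hf, hfg⟩, hd⟩ := hg
  refine ⟨⟨f * X ^ j, mem_coeffIn_X_pow hf j, by rw [Phi_X_pow, hfg]⟩, fun n hn => ?_⟩
  rw [coeff_mul_X_pow']
  split_ifs with h
  · exact hd _ (by omega)
  · rfl

/-- The limit: leading coefficients. -/
noncomputable def lim (y : R) (S : Submodule k R) : Submodule k R where
  carrier := {r | ∃ d, ∃ g ∈ below y S (d + 1), g.coeff d = r}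
  zero_mem' := ⟨0, 0, Submodule.zero_mem _, coeff_zero 0⟩
  add_mem' := by
    rintro r s ⟨d, g, hg, rfl⟩ ⟨e, h, hh, rfl⟩
    refine ⟨d + e, g * X ^ e + h * X ^ d, Submodule.add_mem _ ?_ ?_, ?_⟩
    · have := below_shift hg e
      rwa [add_right_comm] at this
    · have := below_shift hh d
      rwa [show e + 1 + d = d + e + 1 by omega] at this
    · rw [coeff_add, coeff_mul_X_pow, add_comm d e, coeff_mul_X_pow]
  smul_mem' := by
    rintro c r ⟨d, g, hg, rfl⟩
    exact ⟨d, c • g, Submodule.smul_mem _ c hg, by rw [coeff_smul]⟩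

theorem Phi_coeff_high {f : R[X]} {m : ℕ} (hf : ∀ n, m ≤ n → f.coeff n = 0) (n : ℕ)
    (hn : m + 2 ≤ n) : (Phi k y f).coeff n = 0 := by
  obtain ⟨n', rfl⟩ : ∃ n', n = n' + 2 := ⟨n - 2, by omega⟩
  have e : Phi k y f = f + (C y * f - f * C y) * X - C y * f * C y * X ^ 2 := by
    rw [Phi_apply, uP, vP]
    have h1 : C y * X * f = C y * f * X := by rw [mul_assoc, X_mul, ← mul_assoc]
    simp only [add_mul, mul_sub, one_mul, mul_one, h1]
    have h2 : C y * f * X * (C y * X) = C y * f * C y * X ^ 2 := by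
      rw [mul_assoc (C y * f), ← mul_assoc X, X_mul_C, mul_assoc (C y) X X, ← mul_assoc, pow_two]
    have h3 : f * (C y * X) = f * C y * X := (mul_assoc _ _ _).symm
    rw [h2, h3, sub_mul]
    abel
  rw [e, coeff_sub, coeff_add, show n' + 2 = (n' + 1) + 1 by rfl, coeff_mul_X,
    show n' + 1 + 1 = n' + 2 by rfl, coeff_mul_X_pow, coeff_sub, coeff_C_mul, coeff_mul_C,
    coeff_mul_C, coeff_C_mul, hf (n' + 2) (by omega), hf (n' + 1) (by omega), hf n' (by omega)]
  simp

variable [Module.Finite k R]

theorem below_finite (S : Submodule k R) (d : ℕ) : Module.Finite k (below y S d) := by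
  refine Module.Finite.of_injective
    (LinearMap.pi (fun i : Fin d => (lcoeff R i.val).restrictScalars k) ∘ₗ (below y S d).subtype) ?_
  intro g h e
  apply Subtype.ext
  ext n
  rcases lt_or_ge n d with hn | hn
  · exact congrFun e ⟨n, hn⟩
  · rw [g.2.2 n hn, h.2.2 n hn]

theorem finrank_below_le (S : Submodule k R) (d : ℕ) :
    Module.finrank k (below y S d) ≤ d * Module.finrank k (lim y S) := by
  induction d with
  | zero =>
    have h0 : below y S 0 = ⊥ := (Submodule.eq_bot_iff _).2 fun g hg => by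
      ext n; exact hg.2 n (Nat.zero_le n)
    rw [h0, finrank_bot, Nat.zero_mul]
  | succ d ih =>
    haveI := below_finite (y := y) S (d + 1)
    haveI := below_finite (y := y) S d
    let φ : below y S (d + 1) →ₗ[k] lim y S :=
      LinearMap.codRestrict (lim y S) ((lcoeff R d).restrictScalars k ∘ₗ (below y S (d + 1)).subtype)
        (fun g => ⟨d, g.1, g.2, rfl⟩)
    have h1 := LinearMap.finrank_range_add_finrank_ker φ
    have h2 : Module.finrank k (LinearMap.range φ) ≤ Module.finrank k (lim y S) :=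
      Submodule.finrank_le _
    have h3 : Module.finrank k (LinearMap.ker φ) ≤ Module.finrank k (below y S d) := by
      let ψ : LinearMap.ker φ →ₗ[k] below y S d :=
        LinearMap.codRestrict (below y S d)
          ((below y S (d + 1)).subtype ∘ₗ (LinearMap.ker φ).subtype) (fun g => ⟨g.1.2.1, fun n hn => by
            rcases hn.eq_or_lt with h | h
            · subst h
              exact congrArg Subtype.val (LinearMap.mem_ker.1 g.2)
            · exact g.1.2.2 n h⟩)
      exact LinearMap.finrank_le_finrank_of_injective (f := ψ) fun g h e =>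
        Subtype.ext (Subtype.ext (congrArg (fun w : below y S d => (w : R[X])) e))
    calc Module.finrank k (below y S (d + 1)) ≤ Module.finrank k (lim y S) + Module.finrank k (below y S d) := by
          omega
      _ ≤ Module.finrank k (lim y S) + d * Module.finrank k (lim y S) := by omega
      _ = _ := by ring

theorem finrank_le_lim (hy : y * y = 0) (S : Submodule k R) :
    Module.finrank k S ≤ Module.finrank k (lim y S) := by
  by_contra hlt
  push Not at hlt
  set l := Module.finrank k S
  set s := Module.finrank k (lim y S)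
  let m := 2 * l
  haveI := below_finite (y := y) S (m + 2)
  let F : (Fin m → S) →ₗ[k] R[X] :=
    Phi k y ∘ₗ ∑ i : Fin m, ((monomial i.val : R →ₗ[R] R[X]).restrictScalars k ∘ₗ S.subtype) ∘ₗ
      LinearMap.proj i
  have hcoe : ∀ (c : Fin m → S) (n : ℕ), (∑ i : Fin m, monomial i.val ((c i : S) : R)).coeff n =
      if h : n < m then ((c ⟨n, h⟩ : S) : R) else 0 := by
    intro c n
    rw [finsetSum_coeff]
    simp only [coeff_monomial]
    split_ifs with h
    · rw [Finset.sum_eq_single ⟨n, h⟩]
      · simp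
      · intro i _ hi
        rw [if_neg (fun e => hi (Fin.ext e))]
      · simp
    · refine Finset.sum_eq_zero fun i _ => if_neg (fun (e : i.val = n) => h (e ▸ i.isLt))
  have hF : ∀ c, F c = Phi k y (∑ i : Fin m, monomial i.val ((c i : S) : R)) := fun c => by
    simp [F, LinearMap.sum_apply]
  have hmem : ∀ c, F c ∈ below y S (m + 2) := by
    intro c
    rw [hF]
    refine ⟨⟨_, fun n => ?_, rfl⟩, fun n hn => Phi_coeff_high (m := m) (fun j hj => ?_) n hn⟩
    · rw [hcoe]
      split_ifs with h
      · exact (c ⟨n, h⟩).2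
      · exact S.zero_mem
    · rw [hcoe, dif_neg (Nat.not_lt.2 hj)]
  have hinj : Function.Injective (LinearMap.codRestrict _ F hmem) := by
    intro c c' e
    have e' : F c = F c' := congrArg Subtype.val e
    rw [hF, hF, Phi_apply, Phi_apply] at e'
    have e2 := congrArg (fun g => vP y * g * uP y) e'
    simp only [← mul_assoc, vu hy, one_mul] at e2
    rw [mul_assoc _ (vP y), mul_assoc _ (vP y), vu hy, mul_one, mul_one] at e2
    funext i
    have := congrArg (fun g => g.coeff i.val) e2
    simp only [hcoe, i.isLt, dif_pos] at this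
    exact Subtype.ext this
  have h1 := LinearMap.finrank_le_finrank_of_injective hinj
  rw [Module.finrank_pi_fintype] at h1
  simp only [Finset.sum_const, Finset.card_univ, Fintype.card_fin, smul_eq_mul] at h1
  have h2 : m * l ≤ (m + 2) * s := h1.trans (finrank_below_le S (m + 2))
  have h3 : (m + 2) * (s + 1) ≤ (m + 2) * l := Nat.mul_le_mul_left _ hlt
  simp only [m] at h2 h3
  nlinarith

theorem lim_mul_eq_zero (hy : y * y = 0) {S T : Submodule k R} (h : ∀ a ∈ S, ∀ b ∈ T, a * b = 0) :
    ∀ a ∈ lim y S, ∀ b ∈ lim y T, a * b = 0 := by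
  rintro a ⟨d, g, ⟨⟨f, hf, rfl⟩, hd⟩, rfl⟩ b ⟨e, g', ⟨⟨f', hf', rfl⟩, he⟩, rfl⟩
  have hff : f * f' = 0 := by
    ext n
    rw [coeff_mul, coeff_zero]
    exact Finset.sum_eq_zero fun ij _ => h _ (hf _) _ (hf' _)
  have hgg : Phi k y f * Phi k y f' = 0 := by
    rw [Phi_apply, Phi_apply, mul_assoc (uP y * f), ← mul_assoc (vP y), ← mul_assoc (vP y),
      vu hy, one_mul, ← mul_assoc, mul_assoc (uP y) f, hff, mul_zero, zero_mul]
  have hd' : (Phi k y f).natDegree ≤ d := natDegree_le_iff_coeff_eq_zero.2 fun n hn => hd n hn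
  have he' : (Phi k y f').natDegree ≤ e := natDegree_le_iff_coeff_eq_zero.2 fun n hn => he n hn
  rw [← coeff_mul_add_eq_of_natDegree_le hd' he', hgg, coeff_zero]

omit [Module.Finite k R] in
/-- The substitution `X ↦ X + 1`. -/
noncomputable def shift : R[X] →+* R[X] :=
  eval₂RingHom' C (X + 1) (fun a => ((commute_X (C a)).symm).add_right (Commute.one_right _))

theorem shift_C (a : R) : shift (C a) = C a := eval₂_C _ _

theorem shift_X : shift (X : R[X]) = X + 1 := eval₂_X _ _

theorem shift_coeff (g : R[X]) (d : ℕ) (hd : ∀ n, d < n → g.coeff n = 0) (j : ℕ) :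
    (shift g).coeff j = ∑ n ∈ Finset.range (d + 1), g.coeff n * (n.choose j : R) := by
  conv_lhs => rw [g.as_sum_range' (d + 1)
    (Nat.lt_succ_of_le (natDegree_le_iff_coeff_eq_zero.2 hd))]
  rw [map_sum, finsetSum_coeff]
  refine Finset.sum_congr rfl fun n _ => ?_
  rw [← C_mul_X_pow_eq_monomial, map_mul, map_pow, shift_C, shift_X, coeff_C_mul,
    coeff_X_add_one_pow]

theorem lim_conj_stable (hy : y * y = 0) {S : Submodule k R} {r : R} (hr : r ∈ lim y S) :
    (1 - y) * r * (1 + y) ∈ lim y S := by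
  obtain ⟨d, g, ⟨⟨f, hf, rfl⟩, hd⟩, rfl⟩ := hr
  set g := Phi k y f with hg
  have hu : shift (uP y) = C (1 + y) * uP y := by
    simp only [uP, map_add, map_mul, map_one, shift_C, shift_X, mul_add, add_mul, mul_one, one_mul,
      C_add, C_1]
    rw [← mul_assoc, ← C_mul, hy, C_0, zero_mul]
    abel
  have hv : shift (vP y) = vP y * C (1 - y) := by
    simp only [vP, map_sub, map_mul, map_one, shift_C, shift_X, mul_add, sub_mul, mul_sub, mul_one,
      one_mul, C_sub, C_1]
    rw [mul_assoc (C y) X (C y), X_mul_C, ← mul_assoc (C y) (C y), ← C_mul, hy, C_0, zero_mul]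
    abel
  have hyy : (1 - y) * (1 + y) = 1 := by rw [sub_mul, mul_add, mul_add, hy]; simp
  have hP : C (1 - y) * shift g * C (1 + y) = Phi k y (shift f) := by
    rw [hg, Phi_apply, map_mul, map_mul, hu, hv, Phi_apply]
    calc C (1 - y) * (C (1 + y) * uP y * shift f * (vP y * C (1 - y))) * C (1 + y)
        = (C (1 - y) * C (1 + y)) * (uP y * shift f * vP y) * (C (1 - y) * C (1 + y)) := by
          simp only [mul_assoc]
      _ = _ := by rw [← C_mul, hyy, C_1, one_mul, mul_one]
  have hsf : shift f ∈ coeffIn S := fun j => by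
    rw [shift_coeff f f.natDegree (fun n hn => coeff_eq_zero_of_natDegree_lt hn) j]
    refine Submodule.sum_mem _ fun n _ => ?_
    rw [← nsmul_eq_mul']
    exact nsmul_mem (hf n) _
  have hsg : ∀ j, (C (1 - y) * shift g * C (1 + y)).coeff j =
      (1 - y) * (∑ n ∈ Finset.range (d + 1), g.coeff n * (n.choose j : R)) * (1 + y) := fun j => by
    rw [coeff_mul_C, coeff_C_mul, shift_coeff g d (fun n hn => hd n hn) j]
  refine ⟨d, C (1 - y) * shift g * C (1 + y), ⟨⟨shift f, hsf, hP.symm⟩, fun j hj => ?_⟩, ?_⟩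
  · rw [hsg, Finset.sum_eq_zero (fun n hn => ?_), mul_zero, zero_mul]
    rw [Nat.choose_eq_zero_of_lt (by simp at hn; omega), Nat.cast_zero, mul_zero]
  · rw [hsg, Finset.sum_eq_single d]
    · rw [Nat.choose_self, Nat.cast_one, mul_one]
    · intro n hn hne
      rw [Nat.choose_eq_zero_of_lt (by simp at hn; omega), Nat.cast_zero, mul_zero]
    · simp

/-- A pair of mutually inverse polynomials normalising `S` gives a symmetry of the limit. -/
theorem lim_stable_of (hy : y * y = 0) {S : Submodule k R} {a a' : R}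
    (h : ∀ x ∈ S, ∀ n, ((vP y * C a * uP y) * C x * (vP y * C a' * uP y)).coeff n ∈ S)
    {r : R} (hr : r ∈ lim y S) : a * r * a' ∈ lim y S := by
  obtain ⟨d, g, ⟨⟨f, hf, rfl⟩, hd⟩, rfl⟩ := hr
  set A := vP y * C a * uP y with hA
  set A' := vP y * C a' * uP y with hA'
  have hfA : A * f * A' ∈ coeffIn S := by
    conv in f => rw [f.as_sum_range_C_mul_X_pow]
    rw [Finset.mul_sum, Finset.sum_mul]
    refine Submodule.sum_mem _ fun n _ => ?_
    rw [show A * (C (f.coeff n) * X ^ n) * A' = A * C (f.coeff n) * A' * X ^ n by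
      rw [← mul_assoc A, mul_assoc _ (X ^ n) A', X_pow_mul, ← mul_assoc]]
    exact mem_coeffIn_X_pow (fun j => h _ (hf n) j) n
  refine ⟨d, C a * Phi k y f * C a', ⟨⟨A * f * A', hfA, ?_⟩, fun j hj => ?_⟩, ?_⟩
  · simp only [Phi_apply, hA, hA']
    calc uP y * (vP y * C a * uP y * f * (vP y * C a' * uP y)) * vP y
        = (uP y * vP y) * C a * (uP y * f * vP y) * C a' * (uP y * vP y) := by simp only [mul_assoc]
      _ = _ := by rw [uv hy, one_mul, mul_one]
  · rw [coeff_mul_C, coeff_C_mul, hd j hj, mul_zero, zero_mul]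
  · rw [coeff_mul_C, coeff_C_mul]

/-- The limit lies in the span of three conjugates. -/
theorem lim_le (hy : y * y = 0) (S M : Submodule k R) (h2 : (2 : k) ≠ 0)
    (h0 : ∀ x ∈ S, x ∈ M ∧ (1 + y) * x * (1 - y) ∈ M ∧ (1 - y) * x * (1 + y) ∈ M) :
    lim y S ≤ M := by
  rintro _ ⟨d, g, ⟨⟨f, hf, rfl⟩, -⟩, rfl⟩
  have key : ∀ x ∈ S, ∀ n, (Phi k y (C x)).coeff n ∈ M := by
    intro x hx n
    obtain ⟨hx0, hp, hm⟩ := h0 x hx
    have e1 : (2 : k) • (y * x - x * y) = (1 + y) * x * (1 - y) - (1 - y) * x * (1 + y) := by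
      rw [two_smul]; noncomm_ring
    have e2 : (2 : k) • (y * x * y) =
        x + x - ((1 + y) * x * (1 - y) + (1 - y) * x * (1 + y)) := by
      rw [two_smul]; noncomm_ring
    have m1 : y * x - x * y ∈ M := by
      have := M.smul_mem (2 : k)⁻¹ (e1 ▸ M.sub_mem hp hm)
      rwa [smul_smul, inv_mul_cancel₀ h2, one_smul] at this
    have m2 : y * x * y ∈ M := by
      have := M.smul_mem (2 : k)⁻¹ (e2 ▸ M.sub_mem (M.add_mem hx0 hx0) (M.add_mem hp hm))
      rwa [smul_smul, inv_mul_cancel₀ h2, one_smul] at this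
    have e : Phi k y (C x) = C x + C (y * x - x * y) * X - C (y * x * y) * X ^ 2 := by
      rw [Phi_apply, uP, vP]
      simp only [add_mul, mul_sub, one_mul, mul_one, C_mul, C_sub]
      have h1 : C y * X * C x = C y * C x * X := by rw [mul_assoc, X_mul_C, ← mul_assoc]
      rw [h1, show C x * (C y * X) = C x * C y * X from (mul_assoc _ _ _).symm,
        show C y * C x * X * (C y * X) = C y * C x * C y * X ^ 2 by
          rw [mul_assoc (C y * C x), ← mul_assoc X, X_mul_C, mul_assoc (C y) X X, ← mul_assoc, pow_two],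
        sub_mul]
      abel
    rw [e, coeff_sub, coeff_add, coeff_C, coeff_C_mul_X_pow, coeff_C_mul_X]
    refine M.sub_mem (M.add_mem ?_ ?_) ?_ <;> split_ifs <;>
      first | exact M.zero_mem | assumption
  rw [f.as_sum_range_C_mul_X_pow, map_sum, finsetSum_coeff]
  refine Submodule.sum_mem _ fun n _ => ?_
  rw [Phi_X_pow, coeff_mul_X_pow']
  split_ifs
  · exact key _ (hf n) _
  · exact M.zero_mem

end Cfsg.Agent.Lib.LimitOffender
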