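import Cfsg.Agent.Lib.LimitOffender.Lim

/-!
# Quadratic offenders normalised by all quadratic elements

In a finite `p`-group (`p ≥ 5`) of linear maps over `ZMod p` having a quadratic offender, some
quadratic offender is normalised by every element acting quadratically.
-/

set_option autoImplicit false

open Polynomial

namespace Cfsg.Agent.Lib.LimitOffender

section algebra

variable {R : Type*} [Ring R]

theorem one_sub_pow {y : R} (hy : y * y = 0) (t : ℕ) : (1 - y) ^ t = 1 - y * t := by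
  induction t with
  | zero => simp
  | succ t ih =>
    have h : y * (t : R) * y = 0 := by
      rw [mul_assoc, (Nat.cast_commute t y).eq, ← mul_assoc, hy, zero_mul]
    rw [pow_succ, ih, Nat.cast_succ]
    simp only [mul_add, sub_mul, mul_sub, mul_one, one_mul, h]
    abel

theorem one_add_pow' {y : R} (hy : y * y = 0) (t : ℕ) : (1 + y) ^ t = 1 + y * t := by
  have := one_sub_pow (y := -y) (by rw [neg_mul_neg, hy]) t
  simpa [sub_eq_add_neg] using this

end algebra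

variable {p : ℕ} [hp : Fact p.Prime] {W : Type*} [AddCommGroup W] [Module (ZMod p) W]
  [Module.Finite (ZMod p) W] {Γ : Type*} [Group Γ] [Finite Γ]

local notation "𝕜" => ZMod p
local notation "𝓔" => Module.End (ZMod p) W

variable {ρ : Γ →* Module.End (ZMod p) W}

/-- A quadratic element. -/
def Quad (ρ : Γ →* 𝓔) (g : Γ) : Prop := (ρ g - 1) * (ρ g - 1) = 0

/-- A quadratic offender, as the space of its nilpotent parts. -/
structure Off (ρ : Γ →* 𝓔) (L : Submodule 𝕜 𝓔) : Prop where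
  ne_bot : L ≠ ⊥
  sq : ∀ a ∈ L, ∀ b ∈ L, a * b = 0
  lift : ∀ a ∈ L, ∃ g, ρ g = 1 + a
  big : ∃ C : Submodule 𝕜 W, (∀ a ∈ L, ∀ w ∈ C, a w = 0) ∧
    Module.finrank 𝕜 W ≤ Module.finrank 𝕜 L + Module.finrank 𝕜 C

theorem rho_mul_inv (g : Γ) : ρ g * ρ g⁻¹ = 1 := by rw [← map_mul, mul_inv_cancel, map_one]

theorem rho_inv_mul (g : Γ) : ρ g⁻¹ * ρ g = 1 := by rw [← map_mul, inv_mul_cancel, map_one]

/-- The elements normalising `L`. -/
def nmz (ρ : Γ →* 𝓔) (L : Submodule 𝕜 𝓔) : Subgroup Γ :=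
  let M : Submonoid Γ :=
    { carrier := {g | ∀ a ∈ L, ρ g * a * ρ g⁻¹ ∈ L}
      one_mem' := fun a ha => by rwa [inv_one, map_one, one_mul, mul_one]
      mul_mem' := fun {g h} hg hh a ha => by
        have := hg _ (hh a ha)
        rw [mul_inv_rev, map_mul, map_mul]
        simpa only [mul_assoc] using this }
  { M with
    inv_mem' := fun {g} hg => by
      rw [inv_eq_of_mul_eq_one_right (show g * g ^ (orderOf g - 1) = 1 by
        rw [← pow_succ', Nat.sub_add_cancel (orderOf_pos g), pow_orderOf_eq_one])]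
      exact M.pow_mem hg _ }

theorem mem_nmz {L : Submodule 𝕜 𝓔} {g : Γ} : g ∈ nmz ρ L ↔ ∀ a ∈ L, ρ g * a * ρ g⁻¹ ∈ L :=
  Iff.rfl

/-- The conjugate of a space. -/
noncomputable def cj (ρ : Γ →* 𝓔) (g : Γ) (L : Submodule 𝕜 𝓔) : Submodule 𝕜 𝓔 :=
  L.map ((LinearMap.mulLeft 𝕜 (ρ g)).comp (LinearMap.mulRight 𝕜 (ρ g⁻¹)))

theorem mem_cj {g : Γ} {L : Submodule 𝕜 𝓔} {a : 𝓔} :
    a ∈ cj ρ g L ↔ ∃ b ∈ L, ρ g * b * ρ g⁻¹ = a := by
  simp [cj, Submodule.mem_map, mul_assoc]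

theorem cj_nmz {g h : Γ} {L : Submodule 𝕜 𝓔} (hh : g⁻¹ * h * g ∈ nmz ρ L) :
    h ∈ nmz ρ (cj ρ g L) := by
  intro a ha
  obtain ⟨b, hb, rfl⟩ := mem_cj.1 ha
  refine mem_cj.2 ⟨_, hh b hb, ?_⟩
  simp only [mul_inv_rev, inv_inv, map_mul, mul_assoc]
  rw [← mul_assoc (ρ g) (ρ g⁻¹), rho_mul_inv, one_mul]
  simp only [← mul_assoc]
  rw [mul_one]

section three

variable {X : Subgroup Γ}

/-- A square-zero space which `X` normalises and whose elements lift to `X`. -/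
structure Good (ρ : Γ →* 𝓔) (X : Subgroup Γ) (A : Submodule 𝕜 𝓔) : Prop where
  sq : ∀ a ∈ A, ∀ b ∈ A, a * b = 0
  lift : ∀ a ∈ A, ∃ g ∈ X, ρ g = 1 + a
  norm : X ≤ nmz ρ A

variable (h2 : (2 : ZMod p) ≠ 0) (hinj : Function.Injective ρ)

include h2 hinj

theorem Good.bracket {A B : Submodule 𝕜 𝓔} (hA : Good ρ X A) (hB : Good ρ X B) {a b : 𝓔}
    (ha : a ∈ A) (hb : b ∈ B) : a * b - b * a ∈ B := by
  obtain ⟨g, hg, hga⟩ := hA.lift a ha
  obtain ⟨g', hg', hga'⟩ := hA.lift (-a) (A.neg_mem ha)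
  have hgg : g' = g⁻¹ := by
    refine eq_inv_of_mul_eq_one_right (hinj ?_)
    rw [map_mul, hga, hga', map_one, add_mul, mul_add, mul_add, mul_neg a a, hA.sq a ha a ha]
    simp
  have hgi : ρ g⁻¹ = 1 - a := by rw [← hgg, hga', sub_eq_add_neg]
  have h1 := hB.norm hg b hb
  have h3 := hB.norm (X.inv_mem hg) b hb
  rw [inv_inv] at h3
  rw [hga, hgi] at h1 h3
  have e : (2 : 𝕜) • (a * b - b * a) = (1 + a) * b * (1 - a) - (1 - a) * b * (1 + a) := by
    rw [two_smul]; noncomm_ring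
  have := B.smul_mem (2 : 𝕜)⁻¹ (e ▸ B.sub_mem h1 h3)
  rwa [smul_smul, inv_mul_cancel₀ h2, one_smul] at this

theorem Good.sandwich {A B : Submodule 𝕜 𝓔} (hA : Good ρ X A) (hB : Good ρ X B) {a a' b : 𝓔}
    (ha : a ∈ A) (ha' : a' ∈ A) (hb : b ∈ B) : a * b * a' = 0 := by
  have h := Good.bracket h2 hinj hB hA hb ha
  have := hA.sq _ h _ ha'
  rw [sub_mul, mul_assoc b a a', hA.sq a ha a' ha', mul_zero, zero_sub, neg_eq_zero] at this
  exact this

/-- Square-zero elements of the span of three mutually normalising spaces lift to `X`. -/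
theorem lift_span {A B D : Submodule 𝕜 𝓔} (hA : Good ρ X A) (hB : Good ρ X B) (hD : Good ρ X D)
    {z : 𝓔} (hz : z ∈ A ⊔ B ⊔ D) (hzz : z * z = 0) : ∃ g ∈ X, ρ g = 1 + z := by
  obtain ⟨u, hu, w, hw, rfl⟩ := Submodule.mem_sup.1 hz
  obtain ⟨a, ha, c, hc, rfl⟩ := Submodule.mem_sup.1 hu
  have br := fun {A B : Submodule 𝕜 𝓔} (hA : Good ρ X A) (hB : Good ρ X B) {a b : 𝓔}
    (ha : a ∈ A) (hb : b ∈ B) => Good.bracket h2 hinj hA hB ha hb
  have sw := fun {A B : Submodule 𝕜 𝓔} (hA : Good ρ X A) (hB : Good ρ X B) {a a' b : 𝓔}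
    (ha : a ∈ A) (ha' : a' ∈ A) (hb : b ∈ B) => Good.sandwich h2 hinj hA hB ha ha' hb
  set i : 𝕜 := 2⁻¹ with hi
  have hi2 : i + i = 1 := by rw [← two_mul, hi, mul_inv_cancel₀ h2]
  set k1 := a * c - c * a with hk1
  have hk1B : k1 ∈ B := br hA hB ha hc
  have hk1A : k1 ∈ A := by
    have := br hB hA hc ha
    rw [hk1, ← neg_sub]; exact A.neg_mem this
  set c' := c - i • k1
  obtain ⟨g1, hg1, e1⟩ := hA.lift a ha
  obtain ⟨g2, hg2, e2⟩ := hB.lift c' (B.sub_mem hc (B.smul_mem _ hk1B))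
  obtain ⟨u, hu'⟩ : ∃ u, u = a + c := ⟨_, rfl⟩
  rw [← hu'] at hzz ⊢
  set k2 := u * w - w * u with hk2
  have hk2D : k2 ∈ D := by
    have := D.add_mem (br hA hD ha hw) (br hB hD hc hw)
    convert this using 1
    rw [hk2, hu']; noncomm_ring
  obtain ⟨g3, hg3, e3⟩ := hD.lift (w - i • k2) (D.sub_mem hw (D.smul_mem _ hk2D))
  refine ⟨g1 * g2 * g3, X.mul_mem (X.mul_mem hg1 hg2) hg3, ?_⟩
  rw [map_mul, map_mul, e1, e2, e3]
  have uu : u * u = a * c + c * a := by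
    rw [hu', add_mul, mul_add, mul_add, hA.sq a ha a ha, hB.sq c hc c hc]; abel
  have ak : a * k1 = 0 := hA.sq a ha k1 hk1A
  have half : ∀ x : 𝓔, x = i • x + i • x := fun x => by rw [← add_smul, hi2, one_smul]
  have eu : (1 + a) * (1 + c') = 1 + u + i • (u * u) := by
    rw [uu]
    show (1 + a) * (1 + (c - i • k1)) = _
    rw [add_mul, one_mul, mul_add, mul_one, mul_sub, mul_smul_comm, ak, smul_zero, sub_zero, hk1,
      hu', smul_sub, smul_add]
    nth_rewrite 2 [half (a * c)]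
    abel
  rw [eu]
  have ww : w * w = 0 := hD.sq w hw w hw
  have wuw : w * u * w = 0 := by
    rw [hu', mul_add, add_mul, sw hD hA hw hw ha, sw hD hB hw hw hc, add_zero]
  have u3 : u * (u * u) = 0 := by
    rw [uu, hu', add_mul, mul_add, mul_add, ← mul_assoc a a c, hA.sq a ha a ha,
      ← mul_assoc a c a, sw hA hB ha ha hc, ← mul_assoc c a c, sw hB hA hc hc ha,
      ← mul_assoc c c a, hB.sq c hc c hc]
    simp
  have hsum : u * u + (u * w + w * u) = 0 := by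
    rw [← hzz, add_mul, mul_add, mul_add, ww]; abel
  have uuw : u * u * w = 0 := by
    have := congrArg (· * w) hsum
    simp only [add_mul, zero_mul, mul_assoc u w w, ww, mul_zero, wuw, zero_add, add_zero] at this
    exact this
  have hwu : w * u = -(u * u) - u * w := by
    rw [sub_eq_add_neg, ← sub_eq_zero]; rw [← hsum]; abel
  have uwu : u * (w * u) = 0 := by
    rw [hwu, mul_sub, mul_neg, u3, ← mul_assoc, uuw]; simp
  have uuwu : (u * u) * (w * u) = 0 := by rw [mul_assoc, uwu, mul_zero]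
  have uuuw : u * (u * w) = 0 := by rw [← mul_assoc, uuw]
  have e4 : (1 + u + i • (u * u)) * (w - i • k2) = w + u * w - i • k2 := by
    rw [hk2, add_mul, add_mul, one_mul, mul_sub u, mul_smul_comm, mul_sub u, uuuw, uwu,
      smul_mul_assoc, mul_sub, mul_smul_comm, uuw, mul_sub, uuwu, ← mul_assoc (u * u) u w,
      mul_assoc u u u, u3]
    simp
    abel
  rw [mul_add, mul_one, e4, hk2, hwu, smul_sub, smul_sub, smul_neg]
  have hh := half (u * w)
  generalize i • (u * w) = P at hh ⊢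
  rw [hh]
  abel

end three

theorem conj_poly_stable (hp5 : 5 ≤ p) {L : Submodule 𝕜 𝓔} {b h : Γ} {y : 𝓔}
    (hb : ρ b = 1 + y) (hb' : ρ b⁻¹ = 1 - y) (hy : y * y = 0)
    (hN : ∀ t : ℕ, b⁻¹ ^ t * h * b ^ t ∈ nmz ρ L) :
    ∀ x ∈ L, ∀ n, ((vP y * C (ρ h) * uP y) * C x * (vP y * C (ρ h⁻¹) * uP y)).coeff n ∈ L := by
  intro x hx n
  set P := (vP y * C (ρ h) * uP y) * C x * (vP y * C (ρ h⁻¹) * uP y) with hP
  have d1 : (uP y).natDegree ≤ 1 := by
    rw [uP, ← C_1]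
    exact (natDegree_add_le _ _).trans (max_le (by rw [natDegree_C]; omega) ((natDegree_mul_le).trans (Nat.add_le_add (b := 0) (d := 1) (natDegree_C y).le natDegree_X_le)))
  have d2 : (vP y).natDegree ≤ 1 := by
    rw [vP, ← C_1]
    exact (natDegree_sub_le _ _).trans (max_le (by rw [natDegree_C]; omega) ((natDegree_mul_le).trans (Nat.add_le_add (b := 0) (d := 1) (natDegree_C y).le natDegree_X_le)))
  have d3 : ∀ a : 𝓔, (vP y * C a * uP y).natDegree ≤ 2 := fun a =>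
    natDegree_mul_le.trans (Nat.add_le_add ((natDegree_mul_le_of_le d2 (natDegree_C a).le).trans le_rfl) d1)
  have hdeg : P.natDegree < 5 := by
    refine Nat.lt_succ_of_le (natDegree_mul_le.trans (Nat.add_le_add (b := 2) ?_ (d3 _)))
    exact natDegree_mul_le.trans (Nat.add_le_add (b := 2) (d := 0) (d3 _) (natDegree_C x).le)
  have hev : ∀ c : 𝕜, ∑ j ∈ Finset.range 5, c ^ j • P.coeff j ∈ L := by
    intro c
    let ev : 𝓔[X] →+* 𝓔 := eval₂RingHom' (RingHom.id 𝓔) (c.val : 𝓔)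
      (fun a => (Nat.cast_commute c.val a).symm)
    have evC : ∀ a, ev (C a) = a := fun a => eval₂_C _ _
    have evX : ev X = (c.val : 𝓔) := eval₂_X _ _
    have ecast : (c.val : 𝓔) = algebraMap 𝕜 𝓔 c := by
      rw [← map_natCast (algebraMap 𝕜 𝓔), ZMod.natCast_zmod_val]
    have e1 : ev P = ∑ j ∈ Finset.range 5, c ^ j • P.coeff j := by
      conv_lhs => rw [P.as_sum_range' 5 hdeg]
      rw [map_sum]
      refine Finset.sum_congr rfl fun j _ => ?_
      rw [← C_mul_X_pow_eq_monomial, map_mul, map_pow, evC, evX, ecast, ← map_pow, ← Algebra.commutes,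
        ← Algebra.smul_def]
    rw [← e1]
    have := hN c.val x hx
    have eu : ev (uP y) = ρ (b ^ c.val) := by
      rw [map_pow, hb, one_add_pow' hy]
      simp [uP, evC, evX]
    have ev' : ev (vP y) = ρ (b⁻¹ ^ c.val) := by
      rw [map_pow, hb', one_sub_pow hy]
      simp [vP, evC, evX]
    rw [hP]
    simp only [map_mul, evC, eu, ev']
    simpa only [mul_inv_rev, inv_pow, inv_inv, map_mul, mul_assoc] using this
  by_cases hn : n < 5
  swap
  · rw [coeff_eq_zero_of_natDegree_lt (by omega)]; exact L.zero_mem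
  by_contra hcn
  obtain ⟨φ, hφne, hφ⟩ : ∃ φ : 𝓔 →ₗ[𝕜] 𝕜, φ (P.coeff n) ≠ 0 ∧ L ≤ LinearMap.ker φ := by
    obtain ⟨φ, hφ, hφL⟩ := Submodule.exists_dual_map_eq_bot_of_notMem hcn inferInstance
    exact ⟨φ, hφ, fun a ha => LinearMap.mem_ker.2 ((Submodule.eq_bot_iff _).1 hφL _
      (Submodule.mem_map_of_mem ha))⟩
  let Q : 𝕜[X] := ∑ j ∈ Finset.range 5, monomial j (φ (P.coeff j))
  have hQ : Q = 0 := by
    refine eq_zero_of_natDegree_lt_card_of_eval_eq_zero Q (ι := 𝕜) (f := id) Function.injective_id ?_ ?_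
    · intro c
      have := LinearMap.mem_ker.1 (hφ (hev c))
      rw [map_sum] at this
      simp only [map_smul, smul_eq_mul] at this
      simpa [Q, eval_finsetSum, mul_comm] using this
    · rw [ZMod.card]
      refine lt_of_le_of_lt (natDegree_sum_le_of_forall_le (n := 4) _ _ fun j hj => ?_) (by omega)
      exact (natDegree_monomial_le _).trans (by simp at hj; omega)
  apply hφne
  have := congrArg (fun q => q.coeff n) hQ
  simpa [Q, finsetSum_coeff, coeff_monomial, hn] using this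

variable (hp5 : 5 ≤ p) (hinj : Function.Injective ρ)

include hp5 hinj

theorem step {L : Submodule 𝕜 𝓔} (hL : Off ρ L) {X : Subgroup Γ} (hXN : X ≤ nmz ρ L)
    (hLX : ∀ a ∈ L, ∃ g ∈ X, ρ g = 1 + a) {b : Γ} (hb : Quad ρ b)
    (hbX : ∀ h, h ∈ X ↔ b * h * b⁻¹ ∈ X) :
    ∃ L', Off ρ L' ∧ X ≤ nmz ρ L' ∧ b ∈ nmz ρ L' := by
  haveI : NeZero p := ⟨hp.out.ne_zero⟩
  have h2 : (2 : 𝕜) ≠ 0 := by
    intro h
    have : ((2 : ℕ) : 𝕜) = 0 := by exact_mod_cast h
    have := Nat.le_of_dvd (by norm_num) ((ZMod.natCast_eq_zero_iff 2 p).1 this)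
    omega
  obtain ⟨y, hy'⟩ : ∃ y, y = ρ b - 1 := ⟨_, rfl⟩
  have hy : y * y = 0 := hy' ▸ hb
  have hb1 : ρ b = 1 + y := by rw [hy']; abel
  have hb2 : ρ b⁻¹ = 1 - y := by
    calc ρ b⁻¹ = ρ b⁻¹ * ((1 + y) * (1 - y)) := by
          rw [add_mul, mul_sub, mul_sub, hy]; simp
      _ = (ρ b⁻¹ * ρ b) * (1 - y) := by rw [hb1, mul_assoc]
      _ = 1 - y := by rw [rho_inv_mul, one_mul]
  have hbX' : ∀ h, h ∈ X → b⁻¹ * h * b ∈ X := fun h hh =>
    (hbX _).2 (by simpa [mul_assoc] using hh)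
  have hpow : ∀ t : ℕ, ∀ h ∈ X, b⁻¹ ^ t * h * b ^ t ∈ X := by
    intro t
    induction t with
    | zero => simp
    | succ t ih =>
      intro h hh
      have := hbX' _ (ih h hh)
      rw [pow_succ' b⁻¹, pow_succ b]
      simpa only [mul_assoc] using this
  have g1 : Good ρ X L := ⟨hL.sq, hLX, hXN⟩
  have gc : ∀ g : Γ, (∀ h ∈ X, g⁻¹ * h * g ∈ X) → (∀ h ∈ X, g * h * g⁻¹ ∈ X) →
      Good ρ X (cj ρ g L) := fun g hg hg' => by
    refine ⟨?_, ?_, fun h hh => cj_nmz (hXN (hg h hh))⟩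
    · intro a ha c hc
      obtain ⟨a, ha', rfl⟩ := mem_cj.1 ha
      obtain ⟨c, hc', rfl⟩ := mem_cj.1 hc
      calc ρ g * a * ρ g⁻¹ * (ρ g * c * ρ g⁻¹) = ρ g * a * (ρ g⁻¹ * ρ g) * c * ρ g⁻¹ := by
            simp only [mul_assoc]
        _ = 0 := by rw [rho_inv_mul, mul_one, mul_assoc (ρ g), hL.sq a ha' c hc', mul_zero, zero_mul]
    · intro a ha
      obtain ⟨a, ha', rfl⟩ := mem_cj.1 ha
      obtain ⟨q, hq, hqa⟩ := hLX a ha'
      refine ⟨g * q * g⁻¹, hg' q hq, ?_⟩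
      rw [map_mul, map_mul, hqa, mul_add, mul_one, add_mul, rho_mul_inv]
  have g2 := gc b hbX' (fun h hh => (hbX h).1 hh)
  have g3 := gc b⁻¹ (fun h hh => by simpa using (hbX h).1 hh) (fun h hh => by simpa using hbX' h hh)
  set M := L ⊔ cj ρ b L ⊔ cj ρ b⁻¹ L
  have hM : lim y L ≤ M := by
    refine lim_le hy L M h2 fun x hx => ⟨Submodule.mem_sup_left (Submodule.mem_sup_left hx), ?_, ?_⟩
    · exact Submodule.mem_sup_left (Submodule.mem_sup_right (mem_cj.2 ⟨x, hx, by rw [hb1, hb2]⟩))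
    · exact Submodule.mem_sup_right (mem_cj.2 ⟨x, hx, by rw [inv_inv, hb1, hb2]⟩)
  have hsq := lim_mul_eq_zero hy (S := L) (T := L) hL.sq
  refine ⟨lim y L, ⟨?_, hsq, ?_, ?_⟩, ?_, ?_⟩
  · intro h0
    have h1 := finrank_le_lim hy L
    rw [h0, finrank_bot] at h1
    exact hL.ne_bot (Submodule.finrank_eq_zero.1 (Nat.le_zero.1 h1))
  · intro a ha
    obtain ⟨g, -, hg⟩ := lift_span h2 hinj g1 g2 g3 (hM ha) (hsq a ha a ha)
    exact ⟨g, hg⟩
  · obtain ⟨C₀, hC, hbig⟩ := hL.big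
    let ι : (W →ₗ[𝕜] C₀) →ₗ[𝕜] 𝓔 := LinearMap.llcomp 𝕜 W C₀ W C₀.subtype
    have hι : Function.Injective ι := fun f f' e => by
      ext w; exact congrArg (fun g : 𝓔 => g w) e
    set J := LinearMap.range ι
    have hJ : ∀ a ∈ L, ∀ r ∈ J, a * r = 0 := by
      rintro a ha _ ⟨f, rfl⟩
      ext w
      exact hC a ha _ (f w).2
    have hJ' := lim_mul_eq_zero hy hJ
    let C' : Submodule 𝕜 W := ⨅ a : lim y L, LinearMap.ker (a : 𝓔)
    refine ⟨C', fun a ha w hw => LinearMap.mem_ker.1 ((Submodule.mem_iInf _).1 hw ⟨a, ha⟩), ?_⟩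
    let κ : (W →ₗ[𝕜] C') →ₗ[𝕜] 𝓔 := LinearMap.llcomp 𝕜 W C' W C'.subtype
    have hsub : lim y J ≤ LinearMap.range κ := by
      intro r hr
      refine ⟨LinearMap.codRestrict C' r fun w => (Submodule.mem_iInf _).2 fun a => ?_, rfl⟩
      exact LinearMap.mem_ker.2 (congrArg (fun g : 𝓔 => g w) (hJ' _ a.2 r hr))
    have hc : Module.finrank 𝕜 W * Module.finrank 𝕜 C₀ ≤
        Module.finrank 𝕜 W * Module.finrank 𝕜 C' := by
      rw [← Module.finrank_linearMap 𝕜 𝕜 W C₀, ← Module.finrank_linearMap 𝕜 𝕜 W C',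
        ← LinearMap.finrank_range_of_inj hι]
      exact ((finrank_le_lim hy J).trans (Submodule.finrank_mono hsub)).trans
        (LinearMap.finrank_range_le _)
    rcases Nat.eq_zero_or_pos (Module.finrank 𝕜 W) with h0 | h0
    · rw [h0]; exact Nat.zero_le _
    · have := Nat.le_of_mul_le_mul_left hc h0
      have := finrank_le_lim hy L
      omega
  · intro h hh r hr
    exact lim_stable_of hy (conj_poly_stable hp5 hb1 hb2 hy fun t => hXN (hpow t h hh)) hr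
  · have : b⁻¹ ∈ nmz ρ (lim y L) := fun r hr => by
      rw [inv_inv, hb1, hb2]; exact lim_conj_stable hy hr
    simpa using Subgroup.inv_mem _ this

omit hp5 hinj in
theorem quad_of_lift {L : Submodule 𝕜 𝓔} (hL : Off ρ L) {g : Γ} {a : 𝓔} (ha : a ∈ L)
    (hg : ρ g = 1 + a) : Quad ρ g := by
  rw [Quad, hg, add_sub_cancel_left, hL.sq a ha a ha]

theorem exists_normal_off [Group.IsNilpotent Γ] (h : ∃ L, Off ρ L) :
    ∃ L, Off ρ L ∧ ∀ g, Quad ρ g → g ∈ nmz ρ L := by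
  classical
  haveI : NeZero p := ⟨hp.out.ne_zero⟩
  haveI : Finite 𝓔 := Module.finite_of_finite 𝕜
  haveI : Finite (Submodule 𝕜 𝓔) := Finite.of_injective _ SetLike.coe_injective
  haveI : Nonempty {L // Off ρ L} := ⟨⟨_, h.choose_spec⟩⟩
  obtain ⟨⟨L, hL⟩, hmax⟩ := Finite.exists_max
    (fun L : {L // Off ρ L} => {g | Quad ρ g ∧ g ∈ nmz ρ L.1}.ncard)
  refine ⟨L, hL, ?_⟩
  set Q := {g | Quad ρ g}
  set X := Subgroup.closure {g | Quad ρ g ∧ g ∈ nmz ρ L} with hX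
  have hXN : X ≤ nmz ρ L := (Subgroup.closure_le _).2 fun g hg => hg.2
  have hQconj : ∀ g q, Quad ρ q → Quad ρ (g * q * g⁻¹) := fun g q hq => by
    have e : ρ (g * q * g⁻¹) - 1 = ρ g * (ρ q - 1) * ρ g⁻¹ := by
      rw [mul_sub, sub_mul, mul_one, rho_mul_inv, map_mul, map_mul]
    rw [Quad, e]
    calc ρ g * (ρ q - 1) * ρ g⁻¹ * (ρ g * (ρ q - 1) * ρ g⁻¹)
        = ρ g * (ρ q - 1) * (ρ g⁻¹ * ρ g) * (ρ q - 1) * ρ g⁻¹ := by simp only [mul_assoc]
      _ = 0 := by rw [rho_inv_mul, mul_one, mul_assoc (ρ g), hq, mul_zero, zero_mul]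
  intro g hg
  by_contra hgN
  -- some quadratic element outside `X` normalises `X`
  obtain ⟨b, hb, hbX, hbN⟩ : ∃ b, Quad ρ b ∧ b ∈ Subgroup.normalizer (X : Set Γ) ∧ b ∉ X := by
    by_contra hne
    push Not at hne
    set N := Subgroup.normalizer (X : Set Γ)
    have hNN : Subgroup.normalizer (N : Set Γ) ≤ N := by
      intro c hc
      have hsub : ∀ d ∈ Subgroup.normalizer (N : Set Γ), ∀ x ∈ X, d * x * d⁻¹ ∈ X := by
        intro d hd x hx
        have hle : X ≤ X.comap (MulAut.conj d).toMonoidHom := (Subgroup.closure_le _).2 fun q hq =>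
          hne _ (hQconj d q hq.1) ((Subgroup.mem_normalizer_iff.1 hd q).1
            (Subgroup.le_normalizer (Subgroup.subset_closure hq)))
        exact hle hx
      exact Subgroup.mem_normalizer_iff.2 fun x => ⟨hsub c hc x, fun hx => by
        simpa [mul_assoc] using hsub c⁻¹ (Subgroup.inv_mem _ hc) _ hx⟩
    have htop : N = ⊤ := by
      by_contra hN
      exact (not_le_of_gt (Group.normalizerCondition_of_isNilpotent N (lt_top_iff_ne_top.2 hN))) hNN
    exact hgN (hXN (hne g hg (htop ▸ Subgroup.mem_top g)))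
  have hLX : ∀ a ∈ L, ∃ q ∈ X, ρ q = 1 + a := fun a ha => by
    obtain ⟨q, hq⟩ := hL.lift a ha
    refine ⟨q, Subgroup.subset_closure ⟨quad_of_lift hL ha hq, fun c hc => ?_⟩, hq⟩
    have hqi : ρ q * (c * ρ q⁻¹) = c * (ρ q * ρ q⁻¹) := by
      rw [← mul_assoc, ← mul_assoc, hq, add_mul, one_mul, mul_add, mul_one, hL.sq a ha c hc,
        hL.sq c hc a ha]
    rw [mul_assoc, hqi, rho_mul_inv, mul_one]
    exact hc
  obtain ⟨L', hL', hXL', hbL'⟩ := step hp5 hinj hL hXN hLX hb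
    (Subgroup.mem_normalizer_iff.1 hbX)
  have hlt : {g | Quad ρ g ∧ g ∈ nmz ρ L}.ncard < {g | Quad ρ g ∧ g ∈ nmz ρ L'}.ncard := by
    refine Set.ncard_lt_ncard ⟨fun q hq => ⟨hq.1, hXL' (Subgroup.subset_closure hq)⟩, fun hsub => ?_⟩
      (Set.toFinite _)
    exact hbN (Subgroup.subset_closure (hsub ⟨hb, hbL'⟩))
  exact absurd (hmax ⟨L', hL'⟩) (not_le_of_gt hlt)

end Cfsg.Agent.Lib.LimitOffender
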